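import Mathlib.RingTheory.Ideal.Quotient.Operations
import Mathlib.Algebra.MvPolynomial.CommRing
import Mathlib.LinearAlgebra.Basis.VectorSpace

/-!
# Squares of subspaces of codimension one in an algebra
-/

universe u

open MvPolynomial

namespace Groth.L16.ZeroDim

/-- Let the span `V` of the elements `a i` have codimension at most one in a `k`-algebra `A` and generate
the unit ideal, and suppose that the "ratios" `a j / a i` generate `A` wherever `a i` is invertible. Then
the products of two elements of `V` span `A`. -/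
theorem span_mul_eq_top {k A : Type u} [Field k] [CommRing A] [Algebra k A] {σ : Type} (a : σ → A)
    (hgen : Ideal.span (Set.range a) = ⊤) (e : A)
    (hcodim : ∀ b, ∃ v ∈ Submodule.span k (Set.range a), ∃ c : k, b = v + c • e)
    (hloc : ∀ i b, ∃ P : MvPolynomial σ k, ∀ (B : Type u) [CommRing B] [Algebra k B] (q : A →ₐ[k] B)
      (r : σ → B), IsUnit (q (a i)) → (∀ j, q (a j) = r j * q (a i)) → q b = aeval r P) :
    Submodule.span k (Set.range fun p : σ × σ => a p.1 * a p.2) = ⊤ := by
  classical
  set W := Submodule.span k (Set.range fun p : σ × σ => a p.1 * a p.2) with hWdef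
  by_contra hW
  obtain ⟨φ, hφ, hWφ⟩ := Submodule.exists_le_ker_of_lt_top W (lt_top_iff_ne_top.2 hW)
  set V := Submodule.span k (Set.range a) with hVdef
  have hVV : ∀ v ∈ V, ∀ w ∈ V, φ (v * w) = 0 := by
    intro v hv w hw
    induction hv using Submodule.span_induction with
    | mem x hx =>
      obtain ⟨i, rfl⟩ := hx
      induction hw using Submodule.span_induction with
      | mem y hy =>
        obtain ⟨j, rfl⟩ := hy
        exact hWφ (Submodule.subset_span ⟨(i, j), rfl⟩)
      | zero => simp
      | add y z _ _ hy hz => rw [mul_add, map_add, hy, hz, add_zero]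
      | smul c y _ hy => rw [mul_smul_comm, map_smul, hy, smul_zero]
    | zero => simp
    | add y z _ _ hy hz => rw [add_mul, map_add, hy, hz, add_zero]
    | smul c y _ hy => rw [smul_mul_assoc, map_smul, hy, smul_zero]
  let I : Ideal A :=
    { carrier := {x | ∀ b, φ (x * b) = 0}
      add_mem' := fun {x y} hx hy b => by rw [add_mul, map_add, hx, hy, add_zero]
      zero_mem' := fun b => by simp
      smul_mem' := fun c x hx b => by rw [smul_eq_mul, mul_assoc, mul_left_comm]; exact hx _ }
  have hI : ∀ v ∈ V, φ (v * e) = 0 → v ∈ I := by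
    intro v hv h b
    obtain ⟨w, hw, c, rfl⟩ := hcodim b
    rw [mul_add, map_add, hVV v hv w hw, mul_smul_comm, map_smul, h, smul_zero, add_zero]
  have hone : (1 : A) ∉ I := fun h => hφ (LinearMap.ext fun b => by
    have := h b
    rwa [one_mul] at this)
  obtain ⟨i₀, hi₀⟩ : ∃ i, φ (a i * e) ≠ 0 := by
    by_contra! h
    refine hone ?_
    have : Ideal.span (Set.range a) ≤ I :=
      Ideal.span_le.2 (Set.range_subset_iff.2 fun i => hI _ (Submodule.subset_span ⟨i, rfl⟩) (h i))
    exact this (hgen.symm ▸ Submodule.mem_top)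
  let c : σ → k := fun j => φ (a j * e)
  let v : A := (c i₀)⁻¹ • a i₀
  let q : A →ₐ[k] A ⧸ I := Ideal.Quotient.mkₐ k I
  have hv : v ∈ V := V.smul_mem _ (Submodule.subset_span ⟨i₀, rfl⟩)
  have hve : φ (v * e) = 1 := by
    rw [smul_mul_assoc, map_smul, smul_eq_mul]
    exact inv_mul_cancel₀ hi₀
  have hqa : ∀ j, q (a j) = c j • q v := by
    intro j
    rw [← map_smul]
    refine Ideal.Quotient.eq.2 (hI _ (V.sub_mem (Submodule.subset_span ⟨j, rfl⟩) (V.smul_mem _ hv)) ?_)
    rw [sub_mul, map_sub, smul_mul_assoc, map_smul, hve, smul_eq_mul, mul_one, sub_self]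
  have huv : IsUnit (q v) := by
    rw [← Ideal.span_singleton_eq_top, eq_top_iff]
    have h1 : (Ideal.span (Set.range a)).map q.toRingHom ≤ Ideal.span {q v} := by
      rw [Ideal.map_span, Ideal.span_le]
      rintro _ ⟨_, ⟨j, rfl⟩, rfl⟩
      show q (a j) ∈ Ideal.span {q v}
      rw [hqa j, Algebra.smul_def]
      exact Ideal.mul_mem_left _ _ (Ideal.mem_span_singleton_self _)
    rw [hgen, Ideal.map_top] at h1
    exact h1
  have hu : IsUnit (q (a i₀)) := by
    rw [hqa, Algebra.smul_def]
    exact ((IsUnit.mk0 _ hi₀).map _).mul huv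
  have hr : ∀ j, q (a j) = algebraMap k (A ⧸ I) (c j / c i₀) * q (a i₀) := by
    intro j
    rw [← Algebra.smul_def, hqa j, hqa i₀, smul_smul, div_mul_cancel₀ _ hi₀]
  have hscal : ∀ b, ∃ s : k, b - algebraMap k A s ∈ I := by
    intro b
    obtain ⟨P, hP⟩ := hloc i₀ b
    refine ⟨eval (fun j => c j / c i₀) P, Ideal.Quotient.eq.1 ?_⟩
    have h := hP (A ⧸ I) q (fun j => algebraMap k (A ⧸ I) (c j / c i₀)) hu hr
    refine h.trans ?_
    show _ = q (algebraMap k A _)
    rw [AlgHom.commutes]
    exact (MvPolynomial.comp_aeval_apply _ (Algebra.ofId k (A ⧸ I)) P).symm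
  obtain ⟨s, hs⟩ := hscal v
  set i := v - algebraMap k A s with hidef
  have hvs : v = algebraMap k A s + i := by rw [hidef]; ring
  have hs0 : s ≠ 0 := by
    intro h
    apply hone
    rw [h, map_zero, sub_zero] at hidef
    have : q v = 0 := Ideal.Quotient.eq_zero_iff_mem.2 (hidef ▸ hs)
    rw [this, isUnit_zero_iff] at huv
    exact Ideal.Quotient.eq_zero_iff_mem.1 ((map_one q).trans huv.symm)
  have h1 : φ 1 = 0 := by
    have h2 := hVV v hv v hv
    have e1 : v * v = algebraMap k A (s * s) + i * (2 * algebraMap k A s + i) := by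
      rw [hvs, map_mul]; ring
    rw [e1, map_add, hs, add_zero, Algebra.algebraMap_eq_smul_one, map_smul, smul_eq_mul] at h2
    exact (mul_eq_zero.1 h2).resolve_left (mul_ne_zero hs0 hs0)
  refine hφ (LinearMap.ext fun b => ?_)
  obtain ⟨t, ht⟩ := hscal b
  have h2 := ht 1
  rw [mul_one, map_sub, Algebra.algebraMap_eq_smul_one, map_smul, h1, smul_zero, sub_zero] at h2
  exact h2

end Groth.L16.ZeroDim
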