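import Groth.Agent.L16.ProjSpace.CoordSect

/-!
# Quadrics and functions on the standard charts of projective space
-/

set_option autoImplicit false
set_option backward.isDefEq.respectTransparency false
set_option backward.isDefEq.respectTransparency.types false

universe u

open CategoryTheory CategoryTheory.Limits AlgebraicGeometry TopologicalSpace Opposite MvPolynomial

noncomputable section

namespace Groth.L16.ZeroDim

open Groth.L18.Frame (rs ro rs_rs ro_ro rs_smul IsFrame)
open Groth.L16.ProjSpace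

variable (n : ℕ) (R : Type u) [CommRing R]

local notation "𝔄" => CohB1.polyGrading n R

/-- The product of two coordinates. -/
def quad (j l : Fin (n + 1)) : 𝔄 2 :=
  ⟨(Xd n R j).1 * (Xd n R l).1, SetLike.mul_mem_graded (Xd n R j).2 (Xd n R l).2⟩

/-- The product of two coordinates, as a section of `O(2)`. -/
def qsec (j l : Fin (n + 1)) : Γ(Twist.twist 𝔄 ((2 : ℕ) : ℤ), (⊤ : (Proj 𝔄).Opens)) :=
  polyToSection n R 2 (quad n R j l)

/-- Products of coordinates in the frame of a chart. -/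
theorem rs_qsec (i j l : Fin (n + 1)) :
    rs (Twist.twist 𝔄 ((2 : ℕ) : ℤ)) (le_top : dOpen n R i ≤ ⊤) (qsec n R j l) =
      (ProjTwist.ratio 𝔄 (Xd n R j) (Xd n R i) * ProjTwist.ratio 𝔄 (Xd n R l) (Xd n R i)) •
        ProjTwist.posFrame 𝔄 2 (Xd n R i) := by
  refine Subtype.ext (funext fun x => Subtype.ext ?_)
  refine Eq.trans ?_ (Twist.coe_smul_val _ x.1
    ((show Twist.O (𝒜 := 𝔄) (op (dOpen n R i : Opens (ProjectiveSpectrum.top 𝔄))) from
      ProjTwist.ratio 𝔄 (Xd n R j) (Xd n R i) * ProjTwist.ratio 𝔄 (Xd n R l) (Xd n R i)).1 x) _).symm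
  change (Localization.mk ((Xd n R j).1 * (Xd n R l).1) ⟨1, _⟩ : Twist.Loc 𝔄 x.1) =
    _ * Localization.mk ((Xd n R i).1 ^ 2) ⟨1, _⟩
  have e : ∀ k, ro (X := Proj 𝔄) (le_refl (dOpen n R i)) (ProjTwist.ratio 𝔄 (Xd n R k) (Xd n R i)) =
      ProjTwist.ratio 𝔄 (Xd n R k) (Xd n R i) := fun k => Groth.L18.Frame.ro_self _ _
  rw [← e j, ← e l]
  erw [HomogeneousLocalization.val_mul, ProjTwist.ratio_val 𝔄 (Xd n R j) (Xd n R i) (dOpen n R i) le_rfl x,
    ProjTwist.ratio_val 𝔄 (Xd n R l) (Xd n R i) (dOpen n R i) le_rfl x]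
  rw [Localization.mk_mul, Localization.mk_mul, Localization.mk_eq_mk_iff, Localization.r_iff_exists]
  exact ⟨1, by simp only [Submonoid.coe_one, Submonoid.coe_mul, one_mul, mul_one, pow_one]; ring⟩

/-- Constants on an open of projective space. -/
def cst (U : (Proj 𝔄).Opens) : R →+* Γ(Proj 𝔄, U) :=
  ((Proj 𝔄).presheaf.map (homOfLE (le_top : U ≤ ⊤)).op).hom.comp (Coh.toGlobal (CohB1.ProjSpace.toSpec n R))

/-- Functions on a standard chart are polynomials in the ratios. -/
theorem exists_eval₂_ratio (i : Fin (n + 1)) (c : Γ(Proj 𝔄, dOpen n R i)) :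
    ∃ Q : MvPolynomial (Fin (n + 1)) R,
      eval₂ (cst n R (dOpen n R i)) (fun k => ProjTwist.ratio 𝔄 (Xd n R k) (Xd n R i)) Q = c := by
  let θ : MvPolynomial (ChartVar n i) R →+* Γ(Proj 𝔄, dOpen n R i) :=
    ((Proj.awayToSection 𝔄 (Xd n R i).1).hom).comp (toAway n R i)
  have hsurj : Function.Surjective θ := by
    have h1 : Function.Surjective (Proj.awayToSection 𝔄 (Xd n R i).1).hom :=
      (ConcreteCategory.bijective_of_isIso
        (Proj.basicOpenIsoAway 𝔄 (Xd n R i).1 (Xd n R i).2 one_pos).hom).2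
    exact h1.comp (toAway_bijective n R i).2
  obtain ⟨p, rfl⟩ := hsurj c
  refine ⟨rename Subtype.val p, ?_⟩
  rw [eval₂_rename]
  refine RingHom.congr_fun (?_ : eval₂Hom _ _ = θ) p
  refine MvPolynomial.ringHom_ext (fun r => ?_) fun j => ?_
  · rw [eval₂Hom_C]
    refine Subtype.ext (funext fun x => HomogeneousLocalization.val_injective _ ?_)
    refine Eq.trans (toGlobal_apply_val r ⟨x.1, trivial⟩) ?_
    show _ = (((Proj.awayToSection 𝔄 (Xd n R i).1).hom (toAway n R i (C r))).1 x).val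
    rw [toAway_C]
    refine Eq.symm ((ProjectiveSpectrum.Proj.awayToSection_apply 𝔄 (Xd n R i).1 (constHom n R i r) x).trans ?_)
    erw [val_constHom]
    refine (IsLocalization.map_eq _ _).trans ?_
    rw [RingHom.id_apply, ← Localization.mk_one_eq_algebraMap]
    rfl
  · rw [eval₂Hom_X']
    show _ = (Proj.awayToSection 𝔄 (Xd n R i).1).hom (toAway n R i (X j))
    rw [toAway_X]
    refine congrArg (Proj.awayToSection 𝔄 (Xd n R i).1) ?_
    refine HomogeneousLocalization.val_injective _ ?_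
    rw [HomogeneousLocalization.Away.val_mk, ProjSpace.ratio, HomogeneousLocalization.val_mk,
      Localization.mk_eq_mk_iff, Localization.r_iff_exists]
    exact ⟨1, by simp [Xd]⟩

end Groth.L16.ZeroDim
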