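import Groth.Agent.L16.ZeroDim.Alg
import Groth.Agent.L16.ZeroDim.Coord
import Groth.Agent.L06.Dim
import Groth.Agent.L18.Frame
import Mathlib.AlgebraicGeometry.Morphisms.ClosedImmersion

/-!
# Finite subschemes of projective space and quadrics

If the linear forms cut out a subspace of codimension at most one on a finite subscheme of projective
space, then the quadrics restrict surjectively.
-/

set_option autoImplicit false
set_option linter.style.haveILetI false
set_option linter.unusedSectionVars false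
set_option backward.isDefEq.respectTransparency false
set_option backward.isDefEq.respectTransparency.types false
set_option maxHeartbeats 800000

universe u

open CategoryTheory CategoryTheory.Limits AlgebraicGeometry TopologicalSpace Opposite MvPolynomial

noncomputable section

namespace Groth.L16.ZeroDim

open Groth.L18.Frame (rs ro rs_rs rs_self rs_smul ro_ro ro_self ro_mul IsFrame pull pull_rs pull_smul)
open Groth.L16.ProjSpace (Xd xsec dOpen rs_xsec rs_xsec_eq polyToSection polyToSection_surjective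
  polyToSection_apply toGlobal_apply_val)

variable {N : ℕ} {k : Type u} [Field k]

local notation "𝔄" => CohB1.polyGrading N k
local notation "tw" d => Twist.twist (CohB1.polyGrading N k) ((d : ℕ) : ℤ)

variable {Z : Scheme.{u}} (ι : Z ⟶ CohB1.ProjSpace N k)

/-- The constants on `Z`. -/
def gcst : k →+* Γ(Z, ⊤) := (ι.appTop).hom.comp (Coh.toGlobal (CohB1.ProjSpace.toSpec N k))

/-- The restriction of a global section of a twist. -/
def res (d : ℕ) (s : Γ(tw d, (⊤ : (Proj 𝔄).Opens))) : Γ((Scheme.Modules.pullback ι).obj (tw d), ⊤) :=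
  pull ι (tw d) ⊤ s

/-- A point of a discrete scheme, as an open. -/
def ptOpen [DiscreteTopology Z] (z : Z) : Z.Opens := ⟨{z}, isOpen_discrete _⟩

theorem ptOpen_le [DiscreteTopology Z] {z : Z} {U : Z.Opens} (h : z ∈ U) : ptOpen z ≤ U :=
  fun _ hy => (Set.mem_singleton_iff.1 hy) ▸ h

theorem eq_of_ptOpen [DiscreteTopology Z] {M : Z.Modules} {a b : Γ(M, ⊤)}
    (h : ∀ z, rs M (le_top : ptOpen z ≤ ⊤) a = rs M (le_top : ptOpen z ≤ ⊤) b) : a = b :=
  TopCat.Sheaf.eq_of_locally_eq' (⟨M.presheaf, M.isSheaf⟩ : TopCat.Sheaf Ab.{u} Z.toTopCat)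
    ptOpen ⊤ (fun _ => homOfLE le_top) (fun z _ => Opens.mem_iSup.2 ⟨z, rfl⟩) a b h

theorem eq_on_inf [DiscreteTopology Z] {M : Z.Modules} (e : ∀ z, Γ(M, ptOpen z)) (z w : Z) :
    rs M (inf_le_left : ptOpen z ⊓ ptOpen w ≤ ptOpen z) (e z) = rs M inf_le_right (e w) := by
  rcases eq_or_ne z w with rfl | h
  · rfl
  refine TopCat.Sheaf.eq_of_locally_eq' (⟨M.presheaf, M.isSheaf⟩ : TopCat.Sheaf Ab.{u} Z.toTopCat)
    (fun i : PEmpty.{u + 1} => (⊥ : Z.Opens)) (ptOpen z ⊓ ptOpen w) (fun i => i.elim)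
    (fun y hy => absurd ((Set.mem_singleton_iff.1 hy.1).symm.trans (Set.mem_singleton_iff.1 hy.2)) h)
    _ _ fun i => i.elim

/-- A frame of a twist on a finite discrete scheme, following the coordinates. -/
theorem exists_frame [DiscreteTopology Z] (d : ℕ) (i : Z → Fin (N + 1))
    (hi : ∀ z, ι z ∈ dOpen N k (i z)) :
    ∃ F : Γ((Scheme.Modules.pullback ι).obj (tw d), ⊤), IsFrame _ ⊤ F ∧
      ∀ z, rs _ le_top F = rs _ (ptOpen_le (U := ι ⁻¹ᵁ dOpen N k (i z)) (hi z))
        (pull ι (tw d) (dOpen N k (i z)) (ProjTwist.posFrame 𝔄 d (Xd N k (i z)))) := by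
  let M := (Scheme.Modules.pullback ι).obj (tw d)
  let e : ∀ z, Γ(M, ptOpen z) := fun z => rs M (ptOpen_le (U := ι ⁻¹ᵁ dOpen N k (i z)) (hi z))
    (pull ι (tw d) (dOpen N k (i z)) (ProjTwist.posFrame 𝔄 d (Xd N k (i z))))
  have he : ∀ z, IsFrame M (ptOpen z) (e z) := fun z =>
    ((ProjTwist.isFrame_posFrame 𝔄 d (Xd N k (i z))).pullback ι (tw d)).mono _
  let OM : TopCat.Sheaf Ab.{u} Z.toTopCat := ⟨M.presheaf, M.isSheaf⟩
  obtain ⟨F, hF, -⟩ := OM.existsUnique_gluing' ptOpen ⊤ (fun _ => homOfLE le_top)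
    (fun z _ => Opens.mem_iSup.2 ⟨z, rfl⟩) e (eq_on_inf e)
  refine ⟨F, IsFrame.of_cover ptOpen (fun _ => le_top) (fun z _ => Opens.mem_iSup.2 ⟨z, rfl⟩) fun z => ?_, hF⟩
  have : rs M le_top F = e z := hF z
  rw [this]
  exact he z

theorem polyToSection_add (d : ℕ) (p q : CohB1.polyGrading N k d) :
    (polyToSection N k d (p + q) : Γ(tw d, (⊤ : (Proj 𝔄).Opens))) =
      (polyToSection N k d p : Γ(tw d, (⊤ : (Proj 𝔄).Opens))) + polyToSection N k d q :=
  Subtype.ext (funext fun x => Subtype.ext (Localization.add_mk_self _ _ _).symm)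

theorem polyToSection_smul (d : ℕ) (r : k) (p : CohB1.polyGrading N k d) :
    (polyToSection N k d (r • p) : Γ(tw d, (⊤ : (Proj 𝔄).Opens))) =
      (show Γ(Proj 𝔄, ⊤) from Coh.toGlobal (CohB1.ProjSpace.toSpec N k) r) •
        (polyToSection N k d p : Γ(tw d, (⊤ : (Proj 𝔄).Opens))) := by
  refine Subtype.ext (funext fun x => Subtype.ext ?_)
  refine Eq.trans ?_ (Twist.coe_smul_val _ _ _ _).symm
  erw [toGlobal_apply_val, Localization.mk_mul]
  refine (polyToSection_apply d (r • p) x).trans ?_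
  rw [Localization.mk_eq_mk_iff, Localization.r_iff_exists]
  exact ⟨1, by simp [MvPolynomial.smul_eq_C_mul]⟩

theorem res_smul (d : ℕ) (r : k) (s : Γ(tw d, (⊤ : (Proj 𝔄).Opens))) :
    res ι d ((show Γ(Proj 𝔄, ⊤) from Coh.toGlobal (CohB1.ProjSpace.toSpec N k) r) • s) =
      gcst ι r • res ι d s :=
  pull_smul ι (tw d) _ s

theorem res_add (d : ℕ) (s t : Γ(tw d, (⊤ : (Proj 𝔄).Opens))) :
    res ι d (s + t) = res ι d s + res ι d t :=
  map_add (((Scheme.Modules.pullbackPushforwardAdjunction ι).unit.app (tw d)).app ⊤).hom s t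

/-- On a finite subscheme of projective space on which the linear forms span a subspace of codimension at
most one, every section of `O(2)` comes from a quadric. -/
theorem res_two_surjective [IsClosedImmersion ι] [IsAffine Z] [DiscreteTopology Z]
    (hcod : ∃ v : Γ((Scheme.Modules.pullback ι).obj (tw 1), ⊤),
      ∀ t, ∃ (s : Γ(tw 1, (⊤ : (Proj 𝔄).Opens))) (c : k), t = res ι 1 s + gcst ι c • v) :
    Function.Surjective (res ι 2) := by
  classical
  letI : Algebra k Γ(Z, ⊤) := (gcst ι).toAlgebra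
  choose i hi using fun z : Z => ProjSpace.exists_mem_basicOpen_X N k (ι z)
  obtain ⟨F, hF, hFz⟩ := exists_frame ι 1 i hi
  obtain ⟨G, hG, hGz⟩ := exists_frame ι 2 i hi
  have hco : ∀ j, ∃ a : Γ(Z, ⊤), a • F = res ι 1 (xsec N k j) := fun j => by
    obtain ⟨a, ha⟩ := hF.exists_coeff le_rfl (res ι 1 (xsec N k j))
    exact ⟨a, by rwa [rs_self] at ha⟩
  choose a ha using hco
  -- the coefficients near a point
  have haz : ∀ z j, ro (le_top : ptOpen z ≤ ⊤) (a j) = ro (ptOpen_le (U := ι ⁻¹ᵁ dOpen N k (i z)) (hi z))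
      (ι.app (dOpen N k (i z)) (ProjTwist.ratio 𝔄 (Xd N k j) (Xd N k (i z)))) := by
    intro z j
    refine hF.inj le_top ?_
    rw [← rs_smul, ha, hFz z, ← rs_smul, ← pull_smul, ← rs_xsec, ← rs_xsec_eq,
      ← pull_rs ι (tw 1) (le_top : dOpen N k (i z) ≤ ⊤), rs_rs]
    rfl
  have haa : ∀ z, ro (le_top : ptOpen z ≤ ⊤) (a (i z)) = 1 := by
    intro z
    refine hF.inj le_top ?_
    rw [← rs_smul, ha, one_smul, hFz z, ← rs_xsec, ← pull_rs ι (tw 1) (le_top : dOpen N k (i z) ≤ ⊤), rs_rs]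
    rfl
  -- quadrics
  have hprod : ∀ j l, (a j * a l) • G = res ι 2 (qsec N k j l) := by
    intro j l
    refine eq_of_ptOpen fun z => ?_
    rw [rs_smul, ro_mul, haz, haz, hGz z, ← ro_mul, ← map_mul, ← rs_smul, ← pull_smul, ← rs_qsec,
      ← pull_rs ι (tw 2) (le_top : dOpen N k (i z) ≤ ⊤), rs_rs]
    rfl
  have hgen : Ideal.span (Set.range a) = ⊤ := by
    rw [← (isAffineOpen_top Z).iSup_basicOpen_eq_self_iff, eq_top_iff]
    intro z _
    refine Opens.mem_iSup.2 ⟨⟨a (i z), i z, rfl⟩, ?_⟩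
    have h1 : z ∈ Z.basicOpen (ro (le_top : ptOpen z ≤ ⊤) (a (i z))) := by
      rw [haa z, Scheme.basicOpen_of_isUnit _ isUnit_one]
      exact rfl
    rw [Scheme.basicOpen_res] at h1
    exact h1.2
  have hV : ∀ b : Γ(Z, ⊤), ∀ s : Γ(tw 1, (⊤ : (Proj 𝔄).Opens)), b • F = res ι 1 s →
      b ∈ Submodule.span k (Set.range a) := by
    have key : ∀ p : CohB1.polyGrading N k 1, ∃ v ∈ Submodule.span k (Set.range a),
        v • F = res ι 1 (polyToSection N k 1 p) := by
      rintro ⟨p, hp⟩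
      have hp' : p ∈ Submodule.span k (Set.range (X : Fin (N + 1) → MvPolynomial (Fin (N + 1)) k)) := by
        rw [← MvPolynomial.homogeneousSubmodule_one_eq_span_X]; exact hp
      induction hp' using Submodule.span_induction with
      | mem x hx =>
        obtain ⟨j, rfl⟩ := hx
        exact ⟨a j, Submodule.subset_span ⟨j, rfl⟩, ha j⟩
      | zero =>
        refine ⟨0, zero_mem _, ?_⟩
        rw [zero_smul]
        have h := polyToSection_smul (N := N) 1 (0 : k) ⟨0, hp⟩
        rw [map_zero] at h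
        rw [show (⟨0, hp⟩ : CohB1.polyGrading N k 1) = (0 : k) • ⟨0, hp⟩ from Subtype.ext (smul_zero _).symm,
          h, zero_smul]
        exact (map_zero (((Scheme.Modules.pullbackPushforwardAdjunction ι).unit.app (tw 1)).app ⊤).hom).symm
      | add x y hx hy ihx ihy =>
        have hx' : x ∈ CohB1.polyGrading N k 1 := by
          rw [← MvPolynomial.homogeneousSubmodule_one_eq_span_X] at hx; exact hx
        have hy' : y ∈ CohB1.polyGrading N k 1 := by
          rw [← MvPolynomial.homogeneousSubmodule_one_eq_span_X] at hy; exact hy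
        obtain ⟨v, hv, ev⟩ := ihx hx'
        obtain ⟨w, hw, ew⟩ := ihy hy'
        refine ⟨v + w, add_mem hv hw, ?_⟩
        rw [add_smul, ev, ew, ← res_add, ← polyToSection_add]
        rfl
      | smul r x hx ihx =>
        have hx' : x ∈ CohB1.polyGrading N k 1 := by
          rw [← MvPolynomial.homogeneousSubmodule_one_eq_span_X] at hx; exact hx
        obtain ⟨v, hv, ev⟩ := ihx hx'
        refine ⟨r • v, Submodule.smul_mem _ r hv, ?_⟩
        rw [show (⟨r • x, hp⟩ : CohB1.polyGrading N k 1) = r • ⟨x, hx'⟩ from rfl, polyToSection_smul,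
          res_smul, Algebra.smul_def, mul_smul, ev]
        rfl
    intro b s hb
    obtain ⟨p, rfl⟩ := ProjSpace.polyToSection_surjective (n := N) (R := k) 1 s
    obtain ⟨v, hv, ev⟩ := key p
    have hbv : b = v := hF.inj le_rfl (by rw [rs_self, hb, ev])
    exact hbv ▸ hv
  obtain ⟨v₀, hv₀⟩ := hcod
  obtain ⟨e, he⟩ := hF.exists_coeff le_rfl v₀
  rw [rs_self] at he
  have hcodim : ∀ b, ∃ v ∈ Submodule.span k (Set.range a), ∃ c : k, b = v + c • e := by
    intro b
    obtain ⟨s, c, hs⟩ := hv₀ (b • F)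
    refine ⟨b - c • e, hV _ s ?_, c, (sub_add_cancel _ _).symm⟩
    rw [sub_smul, Algebra.smul_def, mul_smul, he, hs]
    exact add_sub_cancel_right _ _
  have hloc : ∀ j b, ∃ P : MvPolynomial (Fin (N + 1)) k, ∀ (B : Type u) [CommRing B] [Algebra k B]
      (q : Γ(Z, ⊤) →ₐ[k] B) (r : Fin (N + 1) → B), IsUnit (q (a j)) →
      (∀ l, q (a l) = r l * q (a j)) → q b = aeval r P := by
    intro j b
    obtain ⟨c, hc⟩ := ι.app_surjective (dOpen N k j)
      (Proj.isAffineOpen_basicOpen 𝔄 (Xd N k j).1 (Xd N k j).2 one_pos)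
      (ro (le_top : ι ⁻¹ᵁ dOpen N k j ≤ ⊤) b)
    obtain ⟨Q, hQ⟩ := exists_eval₂_ratio N k j c
    refine ⟨Q, fun B _ _ q r hu hr => ?_⟩
    have hle : Z.basicOpen (a j) ≤ ι ⁻¹ᵁ dOpen N k j := by
      intro z hz
      have h1 : z ∈ Z.basicOpen (ro (le_top : ptOpen z ≤ ⊤) (a j)) := by
        rw [Scheme.basicOpen_res]; exact ⟨rfl, hz⟩
      rw [haz z j, Scheme.basicOpen_res, ← Scheme.preimage_basicOpen] at h1
      have h2 : ι z ∈ (Proj 𝔄).basicOpen (ProjTwist.ratio 𝔄 (Xd N k j) (Xd N k (i z))) := h1.2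
      rw [ProjTwist.basicOpen_ratio 𝔄 one_pos] at h2
      exact h2.2
    letI := ((Z.presheaf.map (homOfLE (le_top : Z.basicOpen (a j) ≤ ⊤)).op).hom).toAlgebra
    haveI : IsLocalization.Away (a j) Γ(Z, Z.basicOpen (a j)) :=
      (isAffineOpen_top Z).isLocalization_basicOpen (a j)
    let L : Γ(Z, Z.basicOpen (a j)) →+* B := IsLocalization.Away.lift (a j) (g := q.toRingHom) hu
    have hL : ∀ y, L (ro le_top y) = q y := fun y => IsLocalization.Away.lift_eq (a j) hu y
    let ψ : Γ(Proj 𝔄, dOpen N k j) →+* B :=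
      L.comp ((Z.presheaf.map (homOfLE hle).op).hom.comp (ι.app (dOpen N k j)).hom)
    have hψr : ∀ l, ψ (ProjTwist.ratio 𝔄 (Xd N k l) (Xd N k j)) = r l := by
      intro l
      refine hu.mul_right_cancel ?_
      rw [← hr l, ← hL (a j), ← hL (a l)]
      show L (ro hle (ι.app _ _)) * L _ = _
      rw [← map_mul]
      refine congrArg L (hF.inj le_top ?_)
      rw [mul_smul, ← rs_smul, ha, ← rs_smul, ha,
        ← rs_rs _ (le_top : ι ⁻¹ᵁ dOpen N k j ≤ ⊤) hle (res ι 1 (xsec N k l)),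
        ← rs_rs _ (le_top : ι ⁻¹ᵁ dOpen N k j ≤ ⊤) hle (res ι 1 (xsec N k j)), ← rs_smul]
      refine congrArg (rs _ hle) ?_
      show _ • rs _ _ (pull ι (tw 1) ⊤ _) = rs _ _ (pull ι (tw 1) ⊤ _)
      erw [pull_rs ι (tw 1) (le_top : dOpen N k j ≤ ⊤), pull_rs ι (tw 1) (le_top : dOpen N k j ≤ ⊤),
        ← pull_smul, ← rs_xsec_eq]
    have hψc : ψ.comp (cst N k (dOpen N k j)) = algebraMap k B := by
      refine RingHom.ext fun x => ?_
      have h1 := ConcreteCategory.congr_hom (ι.naturality (homOfLE (le_top : dOpen N k j ≤ ⊤)).op)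
        (Coh.toGlobal (CohB1.ProjSpace.toSpec N k) x)
      show L (ro hle (ι.app (dOpen N k j) ((CohB1.ProjSpace N k).presheaf.map
        (homOfLE (le_top : dOpen N k j ≤ ⊤)).op (Coh.toGlobal (CohB1.ProjSpace.toSpec N k) x)))) = _
      erw [h1]
      refine (congrArg L (ro_ro (le_top : ι ⁻¹ᵁ dOpen N k j ≤ ⊤) hle (gcst ι x))).trans ?_
      rw [hL]
      exact q.commutes x
    have h2 : ψ c = q b := by
      show L (ro hle (ι.app _ c)) = _
      rw [hc, ro_ro, hL]
    rw [← h2, ← hQ, MvPolynomial.hom_eval₂, hψc]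
    rw [show (fun l => ψ (ProjTwist.ratio 𝔄 (Xd N k l) (Xd N k j))) = r from funext hψr]
    rfl
  have htop := span_mul_eq_top a hgen e hcodim hloc
  intro y
  obtain ⟨w, hw⟩ := hG.exists_coeff le_rfl y
  rw [rs_self] at hw
  have hwmem : w ∈ Submodule.span k (Set.range fun p : Fin (N + 1) × Fin (N + 1) => a p.1 * a p.2) := by
    rw [htop]; trivial
  have key2 : ∃ s, res ι 2 s = w • G := by
    clear hw
    induction hwmem using Submodule.span_induction with
    | mem _ hx => obtain ⟨p, rfl⟩ := hx; exact ⟨_, (hprod p.1 p.2).symm⟩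
    | zero => exact ⟨0, (map_zero (((Scheme.Modules.pullbackPushforwardAdjunction ι).unit.app (tw 2)).app ⊤).hom).trans (zero_smul _ G).symm⟩
    | add x y _ _ hx hy =>
      obtain ⟨s, hs⟩ := hx
      obtain ⟨t, ht⟩ := hy
      exact ⟨s + t, by rw [res_add, hs, ht, add_smul]⟩
    | smul r x _ hx =>
      obtain ⟨s, hs⟩ := hx
      refine ⟨(show Γ(Proj 𝔄, ⊤) from Coh.toGlobal (CohB1.ProjSpace.toSpec N k) r) • s, ?_⟩
      rw [res_smul, hs, Algebra.smul_def, mul_smul]
      rfl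
  obtain ⟨s, hs⟩ := key2
  exact ⟨s, hs.trans hw⟩

end Groth.L16.ZeroDim
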